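import Groth.Agent.EtCdPhiLib.Main
import Groth.Agent.RDerLib.Delta
import Groth.Agent.S0538
import Groth.Agent.PTorsCdLib.Main
import Groth.Agent.CdCharPLib.Main

/-!
# Cohomological dimension from sheaves killed by a prime
-/

set_option autoImplicit false
set_option linter.all false
set_option backward.isDefEq.respectTransparency false
set_option backward.isDefEq.respectTransparency.types false
set_option synthInstance.maxHeartbeats 400000
set_option maxHeartbeats 1000000

universe u

open CategoryTheory CategoryTheory.Limits CategoryTheory.Abelian AlgebraicGeometry Opposite TensorProduct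
open Groth.Agent Groth.Agent.EtShLib EtPBCProperLib SkySumLib

attribute [local instance] EtSliceLib.pullExact

noncomputable section

namespace EtCdDim1Lib

open EtCdPhiLib

variable {X : Scheme.{u}} [IsNoetherian X] {l d : ℕ}

/-- Powers of the prime. -/
theorem subsingleton_H_killed_pow (hV : ∀ F : EtCoh.Ab X, l • 𝟙 F = 0 → ∀ q, d < q → Subsingleton (EtCoh.H X F q)) (N : ℕ) :
    ∀ F : EtCoh.Ab X, (l ^ N) • 𝟙 F = 0 → ∀ q : ℕ, d < q →
      Subsingleton (EtCoh.H X F q) := by
  induction N with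
  | zero =>
    intro F hF q _
    rw [pow_zero, one_smul] at hF
    exact EtBcBridgeLib.subsingleton_H_of_isZero ((IsZero.iff_id_eq_zero F).2 hF) q
  | succ N ih =>
    intro F hF q hq
    let g : F ⟶ F := l • 𝟙 F
    let S : ShortComplex (EtCoh.Ab X) := ShortComplex.mk (kernel.ι g) (Abelian.factorThruImage g)
      ((cancel_mono (Abelian.image.ι g)).1 (by rw [Category.assoc, Abelian.image.fac, kernel.condition, zero_comp]))
    have hS : S.ShortExact :=
      { exact := ShortComplex.exact_of_f_is_kernel _ (KernelFork.IsLimit.ofι' _ _ fun a ha =>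
          ⟨kernel.lift g a (by rw [← Abelian.image.fac g, ← Category.assoc, ha, zero_comp]), kernel.lift_ι _ _ _⟩)
        mono_f := inferInstanceAs (Mono (kernel.ι g))
        epi_g := inferInstanceAs (Epi (Abelian.factorThruImage g)) }
    have hI : (l ^ N) • 𝟙 S.X₃ = 0 := by
      haveI : Epi S.g := hS.epi_g
      rw [← cancel_epi S.g, Preadditive.comp_nsmul, Category.comp_id, comp_zero]
      show (l ^ N) • Abelian.factorThruImage g = 0
      rw [← cancel_mono (Abelian.image.ι g), Preadditive.nsmul_comp, Abelian.image.fac, zero_comp,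
        show g = l • 𝟙 F from rfl, ← mul_smul, ← pow_succ, hF]
    exact PTorsCdLib.subsingleton_mid hS q
      (hV _ (EtKummerLib.nsmul_id_kernel F l) q hq)
      (ih _ hI q hq)

/-- Sheaves all of whose stalks are `l`-primary. -/
theorem cohDimLEAt_of_killed (hl : l.Prime)
    (hV : ∀ F : EtCoh.Ab X, l • 𝟙 F = 0 → ∀ q, d < q → Subsingleton (EtCoh.H X F q)) : Dix.CohDimLEAt X l d := by
  intro F hF q hq
  have hpos : ∀ m, (∃ j, m = l ^ j) → 0 < m := fun m ⟨j, hj⟩ => hj ▸ pow_pos hl.pos j
  have hF' : TorsionBy (fun m => ∃ j, m = l ^ j) F := fun Ω _ _ ξ y => by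
    obtain ⟨k, hk⟩ := CdCharPLib.exists_pow_nsmul_stk hF ξ y
    exact ⟨l ^ k, ⟨k, rfl⟩, hk⟩
  refine subsingleton_of_forall_eq 0 fun x => ?_
  obtain ⟨I, ι, hι, hI, z, rfl⟩ := PTorsCdLib.exists_cons_sub F (fun Ω _ _ ξ y => by
    obtain ⟨m, hm, h0⟩ := hF' Ω ξ y
    exact ⟨m, hpos m hm, h0⟩) q x
  haveI := hι
  obtain ⟨a, U, m, hm, ψ, hψ⟩ := exists_epi_cons hI (hF'.of_mono ι) hpos
  haveI := hψ
  choose j hj using fun i => (hm i).1
  have hN : (l ^ ∑ i, j i) • 𝟙 I = 0 := PTorsCdLib.nsmul_id_of_epi ψ (PTorsCdLib.nsmul_id_biproduct _ fun i => by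
    obtain ⟨c, hc⟩ := pow_dvd_pow l (Finset.single_le_sum (f := j) (fun _ _ => Nat.zero_le _) (Finset.mem_univ i))
    rw [hc, mul_comm, mul_smul, ← hj i, nsmul_id_extConst, smul_zero])
  rw [(subsingleton_H_killed_pow hV _ I hN q hq).elim z 0,
    Ext.zero_comp]

/-- Sheaves killed by a positive integer. -/
theorem subsingleton_H_killed (hV : ∀ p : ℕ, p.Prime → ∀ F : EtCoh.Ab X, p • 𝟙 F = 0 → ∀ q, d < q →
      Subsingleton (EtCoh.H X F q)) (n : ℕ) :
    0 < n → ∀ F : EtCoh.Ab X, n • 𝟙 F = 0 → ∀ q : ℕ, d < q → Subsingleton (EtCoh.H X F q) := by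
  induction n using induction_on_primes with
  | zero => exact fun h => absurd h (lt_irrefl 0)
  | one =>
    intro _ F hF q _
    rw [one_smul] at hF
    exact EtBcBridgeLib.subsingleton_H_of_isZero ((IsZero.iff_id_eq_zero F).2 hF) q
  | prime_mul l N hl ih =>
    intro hpos F hF q hq
    let g : F ⟶ F := l • 𝟙 F
    let S : ShortComplex (EtCoh.Ab X) := ShortComplex.mk (kernel.ι g) (Abelian.factorThruImage g)
      ((cancel_mono (Abelian.image.ι g)).1 (by rw [Category.assoc, Abelian.image.fac, kernel.condition, zero_comp]))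
    have hS : S.ShortExact :=
      { exact := ShortComplex.exact_of_f_is_kernel _ (KernelFork.IsLimit.ofι' _ _ fun a ha =>
          ⟨kernel.lift g a (by rw [← Abelian.image.fac g, ← Category.assoc, ha, zero_comp]), kernel.lift_ι _ _ _⟩)
        mono_f := inferInstanceAs (Mono (kernel.ι g))
        epi_g := inferInstanceAs (Epi (Abelian.factorThruImage g)) }
    have hI : N • 𝟙 S.X₃ = 0 := by
      haveI : Epi S.g := hS.epi_g
      rw [← cancel_epi S.g, Preadditive.comp_nsmul, Category.comp_id, comp_zero]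
      show N • Abelian.factorThruImage g = 0
      rw [← cancel_mono (Abelian.image.ι g), Preadditive.nsmul_comp, Abelian.image.fac, zero_comp,
        show g = l • 𝟙 F from rfl, ← mul_smul, mul_comm, hF]
    exact PTorsCdLib.subsingleton_mid hS q
      (hV l hl _ (EtKummerLib.nsmul_id_kernel F l) q hq)
      (ih (Nat.pos_of_mul_pos_left hpos) _ hI q hq)

/-- Cohomological dimension from sheaves killed by primes. -/
theorem cohDimLE_of_killed (hV : ∀ p : ℕ, p.Prime → ∀ F : EtCoh.Ab X, p • 𝟙 F = 0 → ∀ q, d < q →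
      Subsingleton (EtCoh.H X F q)) : EtCoh.CohDimLE X d := by
  intro F hF q hq
  have hF' : TorsionBy (fun m => 0 < m) F := torsionBy_of_isTorsion hF
  refine subsingleton_of_forall_eq 0 fun x => ?_
  obtain ⟨I, ι, hι, hI, z, rfl⟩ := PTorsCdLib.exists_cons_sub F hF' q x
  haveI := hι
  obtain ⟨a, U, m, hm, ψ, hψ⟩ := exists_epi_cons hI (hF'.of_mono ι) (fun _ h => h)
  haveI := hψ
  have hN : (∏ i, m i) • 𝟙 I = 0 := PTorsCdLib.nsmul_id_of_epi ψ (PTorsCdLib.nsmul_id_biproduct _ fun i => by
    obtain ⟨c, hc⟩ := Finset.dvd_prod_of_mem m (Finset.mem_univ i)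
    rw [hc, mul_comm, mul_smul, nsmul_id_extConst, smul_zero])
  rw [(subsingleton_H_killed hV _ (Finset.prod_pos fun i _ => (hm i).1) I hN q hq).elim z 0, Ext.zero_comp]

end EtCdDim1Lib
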