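import Groth.Agent.EtCdDim1Lib.Dev
import Groth.Agent.EtCdLocalLib.Point
import Groth.Agent.S4165
import Groth.Agent.S4164
import Groth.Agent.S9262
import Groth.Agent.S3242
import Groth.Agent.S3244
import Groth.Agent.SquareLib.Curve

/-!
# Opens of the punctured spectrum of a normal surface singularity
-/

set_option autoImplicit false
set_option linter.all false
set_option backward.isDefEq.respectTransparency false
set_option backward.isDefEq.respectTransparency.types false
set_option synthInstance.maxHeartbeats 400000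
set_option maxHeartbeats 1000000

universe u

open CategoryTheory CategoryTheory.Limits AlgebraicGeometry

noncomputable section

namespace EtCdDim1Lib

/-- Isomorphic fields. -/
theorem cohDimLEAt_of_ringEquiv {K L : Type u} [Field K] [Field L] (e : K ≃+* L) {l d : ℕ} (hl : l.Prime)
    (h : Dix.CohDimLEAt (Spec (CommRingCat.of K)) l d) : Dix.CohDimLEAt (Spec (CommRingCat.of L)) l d :=
  cohDimLEAt_of_killed hl fun F hF q hq =>
    EtCdPhiLib.cohDimLEAt_of_isIso (Scheme.Spec.mapIso e.toCommRingCatIso.op).hom h F hF q hq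

variable (O : Type u) [CommRing O] [IsDomain O] [IsNoetherianRing O] [IsIntegrallyClosed O]

/-- A point of the punctured spectrum other than the generic one has height one. -/
theorem height_le_one (hdim : ringKrullDim O ≤ 2) {p q : PrimeSpectrum O} (h : p.asIdeal < q.asIdeal) :
    p.asIdeal.height ≤ 1 := by
  have h1 : p.asIdeal.height + 1 ≤ q.asIdeal.height := by
    exact Ideal.height_add_one_le_of_lt_of_isPrime h
  have h2 : (q.asIdeal.height : WithBot ℕ∞) ≤ 2 := (Ideal.height_le_ringKrullDim_of_ne_top q.2.ne_top).trans hdim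
  have h3 : q.asIdeal.height ≤ 2 := WithBot.coe_le_coe.1 h2
  have h4 : p.asIdeal.height + 1 ≤ 1 + 1 := h1.trans h3
  exact (ENat.add_le_add_iff_right ENat.one_ne_top).1 h4

theorem dvr_atPrime (hdim : ringKrullDim O ≤ 2) {p q : PrimeSpectrum O} (hp : p.asIdeal ≠ ⊥)
    (h : p.asIdeal < q.asIdeal) (A : Type u) [CommRing A] [Algebra O A] [IsLocalization.AtPrime A p.asIdeal] :
    ∃ _ : IsDomain A, IsDiscreteValuationRing A := by
  haveI : IsDomain A := IsLocalization.isDomain_of_atPrime A p.asIdeal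
  haveI : IsLocalRing A := IsLocalization.AtPrime.isLocalRing A p.asIdeal
  haveI : IsNoetherianRing A := IsLocalization.isNoetherianRing p.asIdeal.primeCompl A inferInstance
  haveI : IsIntegrallyClosed A := isIntegrallyClosed_of_isLocalization _ _ p.asIdeal.primeCompl_le_nonZeroDivisors
  have hd : ringKrullDim A ≤ 1 := by
    rw [IsLocalization.AtPrime.ringKrullDim_eq_height p.asIdeal A]
    exact_mod_cast height_le_one O hdim h
  haveI : Ring.KrullDimLE 1 A := Ring.krullDimLE_iff.2 (by exact_mod_cast hd)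
  have hnF : ¬ IsField A := fun hF => hp (eq_bot_iff.2 fun a ha => by
    have h1 : algebraMap O A a ∈ IsLocalRing.maximalIdeal A := by
      rw [← IsLocalization.AtPrime.map_eq_maximalIdeal p.asIdeal A]
      exact Ideal.mem_map_of_mem _ ha
    rw [IsLocalRing.isField_iff_maximalIdeal_eq.1 hF, Ideal.mem_bot] at h1
    exact (map_eq_zero_iff _ (IsLocalization.injective A p.asIdeal.primeCompl_le_nonZeroDivisors)).1 h1)
  have hiff : (IsIntegrallyClosed A ∧ ∃! P : Ideal A, P ≠ ⊥ ∧ P.IsPrime) ↔ IsDiscreteValuationRing A :=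
    (IsDiscreteValuationRing.TFAE A hnF).out 3 0
  refine ⟨inferInstance, hiff.1 ⟨inferInstance, IsLocalRing.maximalIdeal A,
    ⟨fun h => hnF (IsLocalRing.isField_iff_maximalIdeal_eq.2 h), inferInstance⟩, fun P ⟨hP, hp⟩ => ?_⟩⟩
  exact IsLocalRing.eq_maximalIdeal (hp.isMaximal_of_ne_bot hP)

variable (K : Type u) [Field K] [Algebra O K] [IsFractionRing O K]

/-- The cohomological dimension of an open of the punctured spectrum. -/
theorem cohDimLE_three (k : Type u) [Field k] [CharZero k] [Algebra k O] (hdim : ringKrullDim O ≤ 2)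
    (U : (Spec (CommRingCat.of O)).Opens)
    (hU : ∀ x : ↥(Spec (CommRingCat.of O)), x ∈ U → ¬ IsClosed ({x} : Set ↥(Spec (CommRingCat.of O))))
    (hcdK : EtCoh.CohDimLE (Spec (CommRingCat.of K)) 2)
    (hcdv : ∀ x : ↥(↑U : Scheme.{u}), IsClosed ({x} : Set ↥(↑U : Scheme.{u})) →
      EtCoh.CohDimLE (Spec ((↑U : Scheme.{u}).residueField x)) 1) :
    EtCoh.CohDimLE (↑U : Scheme.{u}) 3 := by
  classical
  haveI : IsNoetherian (Spec (CommRingCat.of O)) := inferInstance
  haveI : IsLocallyNoetherian (↑U : Scheme.{u}) := isLocallyNoetherian_of_isOpenImmersion U.ι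
  haveI : CompactSpace (↑U : Scheme.{u}) :=
    isCompact_iff_compactSpace.1 (TopologicalSpace.NoetherianSpace.isCompact (U : Set ↥(Spec (CommRingCat.of O))))
  haveI : IsNoetherian (↑U : Scheme.{u}) := { }
  have hspec : ∀ {a b : ↥(↑U : Scheme.{u})}, a ⤳ b → a ≠ b →
      ((U.ι a : PrimeSpectrum O)).asIdeal < ((U.ι b : PrimeSpectrum O)).asIdeal := fun {a b} h hne =>
    lt_of_le_of_ne ((PrimeSpectrum.le_iff_specializes _ _).2 (h.map U.ι.continuous))
      fun he => hne (U.ι.isOpenEmbedding.injective (PrimeSpectrum.ext he))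
  have hup : ∀ a : ↥(↑U : Scheme.{u}), ∃ q : PrimeSpectrum O, (U.ι a : PrimeSpectrum O).asIdeal < q.asIdeal := fun a => by
    have hnm : ¬ (U.ι a : PrimeSpectrum O).asIdeal.IsMaximal := fun hm =>
      hU _ a.2 ((PrimeSpectrum.isClosed_singleton_iff_isMaximal _).2 hm)
    obtain ⟨m, hm, hle⟩ := Ideal.exists_le_maximal _ (U.ι a : PrimeSpectrum O).2.ne_top
    exact ⟨⟨m, hm.isPrime⟩, lt_of_le_of_ne hle fun he => hnm (by rw [he]; exact hm)⟩
  have hgen : ∀ {a b : ↥(↑U : Scheme.{u})}, a ⤳ b → a ≠ b → (U.ι a : PrimeSpectrum O).asIdeal = ⊥ := fun {a b} h hne => by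
    by_contra hb
    obtain ⟨q, hq⟩ := hup b
    have h1 := height_le_one O hdim hq
    have h0 : (⊥ : Ideal O) < (U.ι a : PrimeSpectrum O).asIdeal := bot_lt_iff_ne_bot.2 hb
    have h2 := Ideal.height_add_one_le_of_lt_of_isPrime (hspec h hne)
    have h3 := Ideal.height_add_one_le_of_lt_of_isPrime h0
    have h4 := (add_le_add h3 (le_refl (1 : ℕ∞))).trans (h2.trans h1)
    rw [Ideal.height_bot, zero_add] at h4
    norm_num at h4
  have hclosed : ∀ {a b : ↥(↑U : Scheme.{u})}, a ⤳ b → a ≠ b → IsClosed ({b} : Set ↥(↑U : Scheme.{u})) :=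
    fun {a b} h hne => by
      refine isClosed_of_closure_subset fun c hc => ?_
      by_contra hcb
      have hbc : b ⤳ c := specializes_iff_mem_closure.2 hc
      have h0 := hgen hbc (fun e => hcb e.symm)
      have h1 := hspec h hne
      rw [h0] at h1
      exact not_lt_bot h1
  let φ : ↥(↑U : Scheme.{u}) → ℕ := fun x => if IsClosed ({x} : Set ↥(↑U : Scheme.{u})) then 1 else 3
  refine cohDimLE_of_killed fun l hl F hF q hq => ?_
  have hlk : (l : k) ≠ 0 := Nat.cast_ne_zero.2 hl.ne_zero
  refine EtCdPhiLib.subsingleton_H (φ := φ) ⟨fun x => ?_, fun x y hxy hne R _ _ _ _ _ P hP => ?_⟩ hl F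
    (EtKummerLib.isPrimaryTorsion_of_nsmul_id l 1 (by rw [pow_one]; exact hF)) q (fun x _ => lt_of_le_of_lt ?_ hq)
  rotate_left 2
  · simp only [φ]
    split_ifs <;> omega
  · by_cases hx : IsClosed ({x} : Set ↥(↑U : Scheme.{u}))
    · simp only [φ, hx, if_true]
      refine cohDimLEAt_of_killed hl fun G hG q hq => hcdv x hx G (CdOneLib.isTorsion_of_nsmul_id l hl.pos hG) q hq
    · simp only [φ, hx, if_false]
      obtain ⟨y, hxy, hne⟩ : ∃ y, x ⤳ y ∧ x ≠ y := by
        by_contra hc
        refine hx (isClosed_of_closure_subset fun c hc' => ?_)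
        by_contra hcx
        exact hc ⟨c, specializes_iff_mem_closure.2 hc', fun e => hcx e.symm⟩
      have h0 := hgen hxy hne
      have hK : Dix.CohDimLEAt (Spec (CommRingCat.of K)) l 3 :=
        cohDimLEAt_of_killed hl fun G hG q hq => hcdK G (CdOneLib.isTorsion_of_nsmul_id l hl.pos hG) q (by omega)
      let e₁ := ((Scheme.Spec.residueFieldIso (CommRingCat.of O) (U.ι x)).symm ≪≫
        asIso (U.ι.residueFieldMap x)).commRingCatIsoToRingEquiv
      let p := (U.ι x : PrimeSpectrum O).asIdeal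
      let e₂ : K ≃+* p.ResidueField := IsFractionRing.ringEquivOfRingEquiv (K := K) (L := p.ResidueField)
        ((RingEquiv.quotientBot O).symm.trans (Ideal.quotEquivOfEq h0.symm))
      exact cohDimLEAt_of_ringEquiv (e₂.trans e₁) hl hK
  · have hxc : ¬ IsClosed ({x} : Set ↥(↑U : Scheme.{u})) := fun hc =>
      hne (Set.mem_singleton_iff.1 (hc.closure_eq ▸ specializes_iff_mem_closure.1 hxy)).symm
    have hyc := hclosed hxy hne
    refine ⟨1, by simp only [φ, hxc, hyc, if_true, if_false]; omega, ?_⟩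
    obtain ⟨m, hm⟩ := hup y
    have hy0 : (U.ι y : PrimeSpectrum O).asIdeal ≠ ⊥ := fun h => by
      have := hspec hxy hne
      rw [h] at this
      exact not_lt_bot this
    let A := (↑U : Scheme.{u}).presheaf.stalk y
    let eA : (Spec (CommRingCat.of O)).presheaf.stalk (U.ι y) ≅ A := asIso (U.ι.stalkMap y)
    obtain ⟨_, hdvr⟩ := dvr_atPrime O hdim hy0 hm (Localization.AtPrime (U.ι y : PrimeSpectrum O).asIdeal)
    let e : Localization.AtPrime (U.ι y : PrimeSpectrum O).asIdeal ≃+* A :=
      ((Spec.stalkIso (CommRingCat.of O) (U.ι y)).symm ≪≫ eA).commRingCatIsoToRingEquiv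
    haveI hA : IsDomain A := e.symm.injective.isDomain e.symm.toRingHom
    haveI : IsDiscreteValuationRing A := IsDiscreteValuationRing.RingEquivClass.isDiscreteValuationRing e
    obtain ⟨_, hR⟩ := (Groth.Agent.S9262.result A (HenselLib.HR A) R).2.1 ⟨hA, inferInstance⟩
    have hbot : RingHom.ker (Cyc.specMap y x hxy) = ⊥ := by
      by_contra hne0
      rw [CycDivLib.ker_specMap] at hne0
      have hmax : (CycDivLib.primeOf hxy).asIdeal = IsLocalRing.maximalIdeal A :=
        IsLocalRing.eq_maximalIdeal (Ideal.IsPrime.isMaximal (CycDivLib.primeOf hxy).2 hne0)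
      refine hne ?_
      rw [← CycDivLib.stalkPt_primeOf hxy, show CycDivLib.primeOf hxy = IsLocalRing.closedPoint A from PrimeSpectrum.ext hmax]
      exact Scheme.fromSpecStalk_closedPoint
    rw [hbot, Ideal.map_bot, Ideal.minimalPrimes_eq_subsingleton_self, Set.mem_singleton_iff] at hP
    subst hP
    have hlR : IsUnit (l : R) := by
      have h1 : IsUnit (algebraMap k O (l : k)) := (IsUnit.mk0 _ hlk).map _
      rw [map_natCast] at h1
      have h2 := (h1.map (algebraMap O (Localization.AtPrime (U.ι y : PrimeSpectrum O).asIdeal))).map e.toRingHom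
      simp only [map_natCast] at h2
      simpa only [map_natCast] using h2.map (algebraMap A R)
    have hsh : EtCoh.IsStrictlyHenselianLocalRing R :=
      ⟨Hensel.IsStrictHenselization.henselian (R := A),
        (Hensel.IsStrictHenselization.isSepClosure (R := A) (S := R)).sep_closed⟩
    haveI : NeZero l := ⟨hl.ne_zero⟩
    refine cohDimLEAt_of_ringEquiv (K := FractionRing R)
      (IsFractionRing.ringEquivOfRingEquiv (K := FractionRing R) (L := FractionRing (R ⧸ (⊥ : Ideal R)))
        (RingEquiv.quotientBot R).symm) hl (cohDimLEAt_of_killed hl fun G hG q hq => ?_)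
    exact Groth.Agent.S4165.result R (FractionRing R) hsh l hlR G (Groth.Agent.S4164.killedBy_of_nsmul_id hG) q hq

/-- The cohomology of the multiplicative group on an open of the punctured spectrum. -/
theorem subsingleton_H_Gm (k : Type u) [Field k] [CharZero k] [Algebra k O] (hdim : ringKrullDim O ≤ 2)
    (U : (Spec (CommRingCat.of O)).Opens)
    (hU : ∀ x : ↥(Spec (CommRingCat.of O)), x ∈ U → ¬ IsClosed ({x} : Set ↥(Spec (CommRingCat.of O))))
    (hcdK : EtCoh.CohDimLE (Spec (CommRingCat.of K)) 2)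
    (hcdv : ∀ x : ↥(↑U : Scheme.{u}), IsClosed ({x} : Set ↥(↑U : Scheme.{u})) →
      EtCoh.CohDimLE (Spec ((↑U : Scheme.{u}).residueField x)) 1)
    (r : ℕ) (hr : 4 ≤ r) :
    Subsingleton (EtCoh.H (↑U : Scheme.{u}) (EtCoh.Gm (↑U : Scheme.{u})) r) := by
  haveI : IsNoetherian (Spec (CommRingCat.of O)) := inferInstance
  haveI : IsLocallyNoetherian (↑U : Scheme.{u}) := isLocallyNoetherian_of_isOpenImmersion U.ι
  haveI : CompactSpace (↑U : Scheme.{u}) :=
    isCompact_iff_compactSpace.1 (TopologicalSpace.NoetherianSpace.isCompact (U : Set ↥(Spec (CommRingCat.of O))))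
  haveI : IsNoetherian (↑U : Scheme.{u}) := { }
  haveI : IsReduced (↑U : Scheme.{u}) := isReduced_of_isOpenImmersion U.ι
  have hd : topologicalKrullDim (↑U : Scheme.{u}) ≤ 1 := SquareLib.topologicalKrullDim_le_of_stalks fun a => by
    have hnm : ¬ (U.ι a : PrimeSpectrum O).asIdeal.IsMaximal := fun hm =>
      hU _ a.2 ((PrimeSpectrum.isClosed_singleton_iff_isMaximal _).2 hm)
    obtain ⟨m, hm, hle⟩ := Ideal.exists_le_maximal _ (U.ι a : PrimeSpectrum O).2.ne_top
    have h1 := height_le_one O hdim (q := ⟨m, hm.isPrime⟩) (lt_of_le_of_ne hle fun he => hnm (by rw [he]; exact hm))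
    rw [← ringKrullDim_eq_of_ringEquiv ((Spec.stalkIso (CommRingCat.of O) (U.ι a)).symm ≪≫
      asIso (U.ι.stalkMap a)).commRingCatIsoToRingEquiv,
      IsLocalization.AtPrime.ringKrullDim_eq_height (U.ι a : PrimeSpectrum O).asIdeal
        (Localization.AtPrime (U.ι a : PrimeSpectrum O).asIdeal)]
    exact_mod_cast h1
  have hcd := cohDimLE_three O K k hdim U hU hcdK hcdv
  refine subsingleton_of_forall_eq 0 fun z => ?_
  obtain ⟨n, hn, hz⟩ := isOfFinAddOrder_iff_nsmul_eq_zero.1 (Groth.Agent.S3242.result (↑U : Scheme.{u}) hd r (by omega) z)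
  have hinv : Dix.InvertibleOn (↑U : Scheme.{u}) n := fun x => by
    have h1 : IsUnit (algebraMap k O (n : k)) := (IsUnit.mk0 _ (Nat.cast_ne_zero.2 hn.ne')).map _
    rw [map_natCast] at h1
    let f : O →+* (↑U : Scheme.{u}).residueField x :=
      (((Spec (CommRingCat.of O)).residue (U.ι x) ≫ U.ι.residueFieldMap x).hom).comp
        ((Spec.stalkIso (CommRingCat.of O) (U.ι x)).commRingCatIsoToRingEquiv.symm.toRingHom.comp
          (algebraMap O (Localization.AtPrime (U.ι x : PrimeSpectrum O).asIdeal)))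
    have h2 := h1.map f
    rw [map_natCast] at h2
    exact h2.ne_zero
  obtain ⟨w, hw⟩ := (Groth.Agent.S3244.result (↑U : Scheme.{u}) n hn hinv r (by omega)).ge hz
  haveI := hcd (EtCoh.mu (↑U : Scheme.{u}) n)
    (CdOneLib.isTorsion_of_nsmul_id n hn (EtKummerLib.nsmul_id_kernel _ n)) r (by omega)
  rw [← hw, Subsingleton.elim (α := EtCoh.H (↑U : Scheme.{u}) (EtCoh.mu (↑U : Scheme.{u}) n) r) w 0, map_zero]

end EtCdDim1Lib
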